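import Cfsg.Agent.H765.D3.Sub
import Cfsg.Agent.H756.PU.Engine

/-!
# S5261 (fusion systems over a Sylow `p`-subgroup of `³D₄(q)`): the two parabolics, uniqueness, realization (helper780)

Exact statements.  Plan: `outputs/live/tools/plans/S5261_L.md`.  Everything is over helper765's concrete group `Sy φ`
(`Cfsg/Agent/H765/D3`), generic engine: `Cfsg/Agent/H756/PU/Engine.lean`.
-/

set_option autoImplicit false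

namespace Cfsg.Agent.H780.D4

open Cfsg Cfsg.FusionSystem Cfsg.Agent.H765.D3
open Cfsg.Agent.H765.D3.Sy (Q1 Q2 Z1 Z2 Z3 Z4 u1 u2 u3 u4 u5 u6 form)
open Cfsg.Agent.Hex.Defs (sh cr nm tr)
open Cfsg.Agent.H756.PU (Inv Ess NormAut TIAut AF)

universe u v

/-! ### Generic statements -/

/-- (RK1) A finite group with a Sylow `p`-subgroup `P` which is elementary abelian of order `p^m`, `m ≥ 3`, TI and not
normal: `P` is transitive on the other Sylow subgroups, and for every `P' ≠ P` there is a field `k` of order `p^m` and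
`x, y : k → G` with ranges `P`, `P'` satisfying the relations of `SL₂(k)`. (From S2798 for `p = 2`; S2869, S2120, S0000 for
`p` odd.) -/
def StRk1 : Prop :=
  ∀ {G : Type u} [Group G] [Finite G] {p m : ℕ} [Fact p.Prime] (P : Sylow p G), 3 ≤ m → Nat.card P = p ^ m →
    (∀ x ∈ (P : Subgroup G), x ^ p = 1) → (∀ x ∈ (P : Subgroup G), ∀ y ∈ (P : Subgroup G), x * y = y * x) →
    (∀ g : G, g ∉ Subgroup.normalizer ((P : Subgroup G) : Set G) → ∀ x ∈ (P : Subgroup G),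
      g * x * g⁻¹ ∈ (P : Subgroup G) → x = 1) →
    ¬ (P : Subgroup G).Normal →
    (∀ P' P'' : Sylow p G, P' ≠ P → P'' ≠ P → ∃ x ∈ (P : Subgroup G),
      (P' : Subgroup G).map (MulAut.conj x).toMonoidHom = P'') ∧
    (∀ P' : Sylow p G, P' ≠ P → ∃ (k : Type) (_ : Field k) (_ : Fintype k) (x y : k → G),
      Fintype.card k = p ^ m ∧ Set.range x = (P : Subgroup G) ∧ Set.range y = (P' : Subgroup G) ∧
      Function.Injective x ∧ Function.Injective y ∧ (∀ a b, x (a + b) = x a * x b) ∧ (∀ a b, y (a + b) = y a * y b) ∧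
      ∀ f : k, f ≠ 0 → ∀ g : k,
        (x f * y (-f⁻¹) * x f) * x g * (x f * y (-f⁻¹) * x f)⁻¹ = y (-(f⁻¹ ^ 2 * g)) ∧
        (x f * y (-f⁻¹) * x f) * y g * (x f * y (-f⁻¹) * x f)⁻¹ = x (-(f ^ 2 * g)))

/-- (TIALP) if all essential subgroups are among `Q1`, `Q2`, `Q1` is centric, invariant under all automorphisms of `G0`, and
`Q1 ≰ Q2`, then `Aut_S(Q1)` is TI in `Aut_F(Q1)` (every map defined on a subgroup `> Q1` extends to `S`, by Alperin) -/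
def StTIAlp : Prop :=
  ∀ {G0 : Type u} [Group G0] [Finite G0] {p : ℕ} [Fact p.Prime] (F : FusionSystem (⊤ : Subgroup G0))
    (Q1 Q2 : Subgroup G0), IsPGroup p (⊤ : Subgroup G0) → F.IsSaturated p →
    (∀ E, F.IsEssential p E → E = Q1 ∨ E = Q2) → ¬ Q1 ≤ Q2 → centralizerIn ⊤ Q1 ≤ Q1 →
    (∀ α : MulAut G0, Q1.map α.toMonoidHom = Q1) → TIAut (⊤ : Subgroup G0) (F.autGroup Q1)

/-- (NLIFT) lifting of Weyl elements: `C` is a `p`-subgroup normalized by everything in sight, `D` is a `p'`-subgroup of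
`Γ` which acts on `C` without fixed points, `w` normalizes `D` and lies in `Γ` modulo `C`; then `w ∈ Γ`. -/
def StNLift : Prop :=
  ∀ {A : Type u} [Group A] [Finite A] {p : ℕ} [Fact p.Prime] (C Γ D : Subgroup A), C.Normal → IsPGroup p C → D ≤ Γ →
    (Nat.card D).Coprime p → (∀ c ∈ C, (∀ d ∈ D, d * c = c * d) → c = 1) →
    ∀ w γ₀ : A, γ₀ ∈ Γ → w * γ₀⁻¹ ∈ C → (∀ d ∈ D, w * d * w⁻¹ ∈ D) → w ∈ Γ

/-! ### The fields, the torus -/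

/-- the fields: `|F| = q = pⁿ`, `φ t = t^q` generates `Gal(K/F)` of order three -/
structure HypD {F K : Type u} [Field F] [Field K] [Algebra F K] (φ : K ≃ₐ[F] K) (p n : ℕ) : Prop where
  pp : p.Prime
  hn : 1 ≤ n
  fin : Finite K
  card : Nat.card F = p ^ n
  cardK : Nat.card K = (p ^ n) ^ 3
  char : CharP K p
  phi : ∀ t : K, φ t = t ^ (p ^ n)

section
variable {F K : Type u} [Field F] [Field K] [Algebra F K] {φ : K ≃ₐ[F] K} [Cub φ]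

/-- `α` is the automorphism of `Sy φ` given by `x1 ↦ s τ(x1)`, `x6 ↦ t ρ(x6)` -/
structure IsTor (α : MulAut (Sy φ)) (s : K) (t : F) (τ : K ≃+* K) (ρ : F ≃+* F) : Prop where
  nes : s ≠ 0
  net : t ≠ 0
  res : ∀ x : F, τ (algebraMap F K x) = algebraMap F K (ρ x)
  x1 : ∀ g : Sy φ, (α g).x1 = s * τ g.x1
  x6 : ∀ g : Sy φ, (α g).x6 = t * ρ g.x6
  x5 : ∀ g : Sy φ, (α g).x5 = t • (s * τ g.x5)
  x3 : ∀ g : Sy φ, (α g).x3 = t • (sh φ s * τ g.x3)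
  x2 : ∀ g : Sy φ, (α g).x2 = nm φ s * t * ρ g.x2
  x4 : ∀ g : Sy φ, (α g).x4 = nm φ s * t ^ 2 * ρ g.x4

variable (φ) in
/-- the torus with field automorphisms -/
noncomputable def TT : Subgroup (MulAut (Sy φ)) := Subgroup.closure {α | ∃ s t τ ρ, IsTor α s t τ ρ}

/-- `γ` is the restriction of `α` to `Q` -/
def IsR (α : MulAut (Sy φ)) {Q : Subgroup (Sy φ)} (γ : MulAut Q) : Prop := ∀ e : Q, ((γ e : Q) : Sy φ) = α e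

/-- the Weyl element of `SL₂(K)` on `Q₁` -/
structure IsW1 (γ : MulAut (Q1 φ)) : Prop where
  x6 : ∀ e : Q1 φ, ((γ e : Q1 φ) : Sy φ).x6 = -(e : Sy φ).x2
  x5 : ∀ e : Q1 φ, ((γ e : Q1 φ) : Sy φ).x5 = (e : Sy φ).x3
  x3 : ∀ e : Q1 φ, ((γ e : Q1 φ) : Sy φ).x3 = -(e : Sy φ).x5
  x2 : ∀ e : Q1 φ, ((γ e : Q1 φ) : Sy φ).x2 = (e : Sy φ).x6
  x4 : ∀ e : Q1 φ, ((γ e : Q1 φ) : Sy φ).x4 =
    (e : Sy φ).x4 + (e : Sy φ).x2 * (e : Sy φ).x6 - tr φ ((e : Sy φ).x3 * (e : Sy φ).x5)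

/-- the Weyl element of `SL₂(F)` on `Q₂` -/
structure IsW2 (γ : MulAut (Q2 φ)) : Prop where
  x1 : ∀ e : Q2 φ, ((γ e : Q2 φ) : Sy φ).x1 = -(e : Sy φ).x5
  x5 : ∀ e : Q2 φ, ((γ e : Q2 φ) : Sy φ).x5 = (e : Sy φ).x1
  x3 : ∀ e : Q2 φ, ((γ e : Q2 φ) : Sy φ).x3 = (e : Sy φ).x3 - cr φ (e : Sy φ).x1 (e : Sy φ).x5
  x2 : ∀ e : Q2 φ, ((γ e : Q2 φ) : Sy φ).x2 =
    (e : Sy φ).x4 - tr φ ((e : Sy φ).x3 * (e : Sy φ).x5) + tr φ ((e : Sy φ).x1 * sh φ (e : Sy φ).x5)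
  x4 : ∀ e : Q2 φ, ((γ e : Q2 φ) : Sy φ).x4 =
    -(e : Sy φ).x2 + tr φ ((e : Sy φ).x1 * (e : Sy φ).x3) - tr φ (sh φ (e : Sy φ).x1 * (e : Sy φ).x5)

variable (φ) in
/-- `Inn(Q₁) SL₂(K)` -/
noncomputable def Lam1 : Subgroup (MulAut (Q1 φ)) := autInducedBy ⊤ (Q1 φ) ⊔ Subgroup.closure {γ | IsW1 γ}

variable (φ) in
/-- `Inn(Q₂) SL₂(F)` -/
noncomputable def Lam2 : Subgroup (MulAut (Q2 φ)) := autInducedBy ⊤ (Q2 φ) ⊔ Subgroup.closure {γ | IsW2 γ}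

/-- `Γ = Aut_F(Q)` for a parabolic `Q` whose Sylow subgroup is TI and not normal, and `D` the `p'`-part of `Aut_F(S)` -/
structure Par (p : ℕ) (Q : Subgroup (Sy φ)) (Γ : Subgroup (MulAut Q)) (D : Subgroup (MulAut (Sy φ))) : Prop where
  indu : autInducedBy ⊤ Q ≤ Γ
  syl : ∀ P : Subgroup (MulAut Q), P ≤ Γ → IsPGroup p P → ∃ g ∈ Γ, ∀ x ∈ P, g * x * g⁻¹ ∈ autInducedBy ⊤ Q
  nn : ¬ ∀ γ ∈ Γ, NormAut ⊤ γ
  ti : TIAut (⊤ : Subgroup (Sy φ)) Γ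
  D_le : D ≤ TT φ
  D_cop : (Nat.card D).Coprime p
  D_res : ∀ d ∈ D, ∀ γ : MulAut Q, IsR d γ → γ ∈ Γ
  norm : ∀ γ ∈ Γ, NormAut ⊤ γ → ∃ x : Sy φ, ∃ d ∈ D, ∀ e : Q, ((γ e : Q) : Sy φ) = x * d e * x⁻¹

/-- `γ` and `δ` agree on `V₁ = Q₁/Z₁` -/
def Same1 (γ δ : MulAut (Q1 φ)) : Prop := ∀ e : Q1 φ,
  ((γ e : Q1 φ) : Sy φ).x6 = ((δ e : Q1 φ) : Sy φ).x6 ∧ ((γ e : Q1 φ) : Sy φ).x5 = ((δ e : Q1 φ) : Sy φ).x5 ∧
  ((γ e : Q1 φ) : Sy φ).x3 = ((δ e : Q1 φ) : Sy φ).x3 ∧ ((γ e : Q1 φ) : Sy φ).x2 = ((δ e : Q1 φ) : Sy φ).x2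

/-- `γ` and `δ` agree on `Q₂/Z₃`, `Z₃/Z₂`, `Z₂` -/
def Same2 (γ δ : MulAut (Q2 φ)) : Prop :=
  (∀ e : Q2 φ, ((γ e : Q2 φ) : Sy φ).x1 = ((δ e : Q2 φ) : Sy φ).x1 ∧
    ((γ e : Q2 φ) : Sy φ).x5 = ((δ e : Q2 φ) : Sy φ).x5) ∧
  (∀ e : Q2 φ, (e : Sy φ) ∈ Z3 φ → ((γ e : Q2 φ) : Sy φ).x3 = ((δ e : Q2 φ) : Sy φ).x3) ∧
  (∀ e : Q2 φ, (e : Sy φ) ∈ Z2 φ → ((γ e : Q2 φ) : Sy φ).x2 = ((δ e : Q2 φ) : Sy φ).x2 ∧
    ((γ e : Q2 φ) : Sy φ).x4 = ((δ e : Q2 φ) : Sy φ).x4)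

/-- `D` contains the torus `K^* × F^*` -/
def HasT (D : Subgroup (MulAut (Sy φ))) : Prop :=
  ∀ (s : K) (t : F) (α : MulAut (Sy φ)), IsTor α s t (RingEquiv.refl K) (RingEquiv.refl F) → α ∈ D

/-- `D` contains the torus of `SL₂(K)` -/
def HasH1 (D : Subgroup (MulAut (Sy φ))) : Prop :=
  ∀ (a : K) (α : MulAut (Sy φ)), a ≠ 0 → IsTor α (a ^ 2) (nm φ a)⁻¹ (RingEquiv.refl K) (RingEquiv.refl F) → α ∈ D

/-- `D` contains the torus of `SL₂(F)` -/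
def HasH2 (D : Subgroup (MulAut (Sy φ))) : Prop :=
  ∀ (b : F) (α : MulAut (Sy φ)), b ≠ 0 →
    IsTor α (algebraMap F K b)⁻¹ (b ^ 2) (RingEquiv.refl K) (RingEquiv.refl F) → α ∈ D

end

/-! ### The linear group on `V₁ = Q₁/Z₁ = F × K × K × F` -/

section
variable {F K : Type u} [Field F] [Field K] [Algebra F K]

/-- `V₁`, coordinates `(x6, x5, x3, x2)` -/
abbrev V1 (F K : Type u) [Field F] [Field K] [Algebra F K] : Type u := F × K × K × F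

variable (φ : K ≃ₐ[F] K)

/-- the form on `V₁` -/
noncomputable def formV (v w : V1 F K) : F :=
  v.1 * w.2.2.2 - v.2.2.2 * w.1 - tr φ (v.2.1 * w.2.2.1) + tr φ (v.2.2.1 * w.2.1)

/-- the quadratic form on `V₁` given by squaring (`p = 2`) -/
noncomputable def quadV (v : V1 F K) : F := v.2.2.2 * v.1 + tr φ (v.2.2.1 * v.2.1)

/-- `g` is the action of `u1 a` -/
def IsActV (g : Equiv.Perm (V1 F K)) (a : K) : Prop := ∀ v : V1 F K, g v =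
  (v.1, v.2.1 + v.1 • a, v.2.2.1 + cr φ a v.2.1 + v.1 • sh φ a,
    v.2.2.2 + tr φ (a * v.2.2.1) + tr φ (sh φ a * v.2.1) + v.1 * nm φ a)

/-- `g` is the action of the torus element -/
structure IsTorV (g : Equiv.Perm (V1 F K)) (s : K) (t : F) (τ : K ≃+* K) (ρ : F ≃+* F) : Prop where
  nes : s ≠ 0
  net : t ≠ 0
  res : ∀ x : F, τ (algebraMap F K x) = algebraMap F K (ρ x)
  app : ∀ v : V1 F K, g v = (t * ρ v.1, t • (s * τ v.2.1), t • (sh φ s * τ v.2.2.1), nm φ s * t * ρ v.2.2.2)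

/-- `g` is the action of the Weyl element -/
def IsW1V (g : Equiv.Perm (V1 F K)) : Prop := ∀ v : V1 F K, g v = (-v.2.2.2, v.2.2.1, -v.2.1, v.1)

/-- `G` is the image of `Aut_F(Q₁)` in `Aut(V₁)`, `Dc` the set of the parameters of `D` -/
structure LPar (p : ℕ) (G : Subgroup (Equiv.Perm (V1 F K))) (Dc : Set (K × F × (K ≃+* K) × (F ≃+* F))) : Prop where
  add : ∀ g ∈ G, ∀ v w : V1 F K, g (v + w) = g v + g w
  /-- the image of `S` -/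
  act : ∀ (a : K) (g : Equiv.Perm (V1 F K)), IsActV φ g a → g ∈ G
  syl : ∀ P : Subgroup (Equiv.Perm (V1 F K)), P ≤ G → IsPGroup p P →
    ∃ g ∈ G, ∀ x ∈ P, ∃ a, IsActV φ (g * x * g⁻¹) a
  nn : ∃ g ∈ G, ∃ (a : K) (x : Equiv.Perm (V1 F K)), IsActV φ x a ∧ ¬ ∃ b, IsActV φ (g * x * g⁻¹) b
  ti : ∀ g ∈ G, ∀ (a : K) (x : Equiv.Perm (V1 F K)), IsActV φ x a → x ≠ 1 → (∃ b, IsActV φ (g * x * g⁻¹) b) →
    ∀ (a' : K) (x' : Equiv.Perm (V1 F K)), IsActV φ x' a' → ∃ b, IsActV φ (g * x' * g⁻¹) b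
  frm : ∀ g ∈ G, ∃ ζ : F ≃+ F, ∀ v w : V1 F K, formV φ (g v) (g w) = ζ (formV φ v w)
  quad : p = 2 → ∀ g ∈ G, ∃ ζ : F ≃+ F, ∀ v : V1 F K, quadV φ (g v) = ζ (quadV φ v)
  tor : ∀ s t τ ρ, (s, t, τ, ρ) ∈ Dc → ∃ g ∈ G, IsTorV φ g s t τ ρ
  /-- `Dc` is a group of order prime to `p` -/
  cop : ∃ H : Subgroup (Equiv.Perm (V1 F K)), (Nat.card H).Coprime p ∧
    ∀ g, g ∈ H ↔ ∃ s t τ ρ, (s, t, τ, ρ) ∈ Dc ∧ IsTorV φ g s t τ ρ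
  norm : ∀ g ∈ G, (∀ (a : K) (x : Equiv.Perm (V1 F K)), IsActV φ x a → ∃ b, IsActV φ (g * x * g⁻¹) b) →
    ∃ s t τ ρ, (s, t, τ, ρ) ∈ Dc ∧ ∃ x y : Equiv.Perm (V1 F K), (∃ a, IsActV φ x a) ∧ IsTorV φ y s t τ ρ ∧ g = x * y

end

/-- the intermediate situation: `x a` is the action of `u1 a`, `y` parametrizes an opposite Sylow subgroup, with the
relations of `SL₂(K)` -/
structure RkV {F K : Type u} [Field F] [Field K] [Algebra F K] (φ : K ≃ₐ[F] K)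
    (x y : K → Equiv.Perm (V1 F K)) : Prop where
  xact : ∀ a, IsActV φ (x a) a
  yadd : ∀ a b, y (a + b) = y a * y b
  lin : ∀ a, ∀ v w : V1 F K, y a (v + w) = y a v + y a w
  frm : ∀ a, ∀ v w : V1 F K, formV φ (y a v) (y a w) = formV φ v w
  rel1 : ∀ f : K, f ≠ 0 → ∀ g : K, (x f * y (-f⁻¹) * x f) * x g * (x f * y (-f⁻¹) * x f)⁻¹ = y (-(f⁻¹ ^ 2 * g))
  rel2 : ∀ f : K, f ≠ 0 → ∀ g : K, (x f * y (-f⁻¹) * x f) * y g * (x f * y (-f⁻¹) * x f)⁻¹ = x (-(f ^ 2 * g))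
  /-- `h(f) = w(f) w(1)⁻¹` is in the torus -/
  tor : ∀ f : K, f ≠ 0 → ∃ t : F, t ^ 2 * nm φ f ^ 2 = 1 ∧
    IsTorV φ ((x f * y (-f⁻¹) * x f) * (x 1 * y (-1) * x 1)⁻¹) (f ^ 2) t (RingEquiv.refl K) (RingEquiv.refl F)
  three : Nat.card F = 3 → ∃ g, IsTorV φ g (-1) 1 (RingEquiv.refl K) (RingEquiv.refl F) ∧ ∀ b, ∃ c, g * y b * g⁻¹ = y c
  two : Nat.card F = 2 → ∀ b, ∀ v : V1 F K, quadV φ (y b v) = quadV φ v

/-! ### The concrete statements -/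

/-- (GRPD) orders, existence of the automorphisms -/
def StGrpD : Prop :=
  ∀ {F K : Type u} [Field F] [Field K] [Algebra F K] {φ : K ≃ₐ[F] K} [Cub φ] {p n : ℕ}, HypD φ p n →
    Nat.card (Sy φ) = (p ^ n) ^ 12 ∧ IsPGroup p (⊤ : Subgroup (Sy φ)) ∧
    (∀ (s : K) (t : F) (τ : K ≃+* K) (ρ : F ≃+* F), s ≠ 0 → t ≠ 0 →
      (∀ x : F, τ (algebraMap F K x) = algebraMap F K (ρ x)) → ∃ α : MulAut (Sy φ), IsTor α s t τ ρ) ∧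
    (∀ α ∈ TT φ, ∃ s t τ ρ, IsTor α s t τ ρ) ∧ (∃ γ : MulAut (Q1 φ), IsW1 γ) ∧ (∃ γ : MulAut (Q2 φ), IsW2 γ)

/-- (POSD) every `p'`-group of automorphisms of `Sy φ` is conjugate into `TT φ` -/
def StPosD : Prop :=
  ∀ {F K : Type u} [Field F] [Field K] [Algebra F K] {φ : K ≃ₐ[F] K} [Cub φ] {p n : ℕ}, HypD φ p n →
    ∀ D : Subgroup (MulAut (Sy φ)), (Nat.card D).Coprime p → ∃ θ : MulAut (Sy φ), ∀ d ∈ D, θ * d * θ⁻¹ ∈ TT φ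

/-- (ED) the essential subgroups (helper802) -/
def StED : Prop :=
  ∀ {F K : Type u} [Field F] [Field K] [Algebra F K] {φ : K ≃ₐ[F] K} [Cub φ] {p n : ℕ}, HypD φ p n →
    ∀ {E : Subgroup (Sy φ)} {Γ : Subgroup (MulAut E)}, Ess (⊤ : Subgroup (Sy φ)) E p Γ → E = Q1 φ ∨ E = Q2 φ

/-- (TOR) `T = H₁ H₂` -/
def StTor : Prop :=
  ∀ {F K : Type u} [Field F] [Field K] [Algebra F K] {φ : K ≃ₐ[F] K} [Cub φ] {p n : ℕ}, HypD φ p n →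
    ∀ D : Subgroup (MulAut (Sy φ)), HasH1 D → HasH2 D → HasT D

/-- (LIN1B) the relations determine the Weyl element and the torus -/
def StLin1b : Prop :=
  ∀ {F K : Type u} [Field F] [Field K] [Algebra F K] {φ : K ≃ₐ[F] K} [Cub φ] {p n : ℕ}, HypD φ p n →
    ∀ x y : K → Equiv.Perm (V1 F K), RkV φ x y →
    IsW1V (x 1 * y (-1) * x 1) ∧ ∀ f : K, f ≠ 0 →
      IsTorV φ ((x f * y (-f⁻¹) * x f) * (x 1 * y (-1) * x 1)⁻¹) (f ^ 2) (nm φ f)⁻¹ (RingEquiv.refl K) (RingEquiv.refl F)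

/-- (LIN1) the linear group on `V₁` -/
def StLin1 : Prop :=
  ∀ {F K : Type u} [Field F] [Field K] [Algebra F K] {φ : K ≃ₐ[F] K} [Cub φ] {p n : ℕ}, HypD φ p n →
    ∀ (G : Subgroup (Equiv.Perm (V1 F K))) (Dc : Set (K × F × (K ≃+* K) × (F ≃+* F))), LPar φ p G Dc →
    (p ^ n = 3 → ((-1 : K), (1 : F), RingEquiv.refl K, RingEquiv.refl F) ∈ Dc) →
    (∀ a : K, a ≠ 0 → (a ^ 2, (nm φ a)⁻¹, RingEquiv.refl K, RingEquiv.refl F) ∈ Dc) ∧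
    (∀ g : Equiv.Perm (V1 F K), IsW1V g → g ∈ G) ∧
    (∀ g ∈ G, ∃ l ∈ Subgroup.closure {x : Equiv.Perm (V1 F K) | (∃ a, IsActV φ x a) ∨ IsW1V x},
      ∃ s t τ ρ, (s, t, τ, ρ) ∈ Dc ∧ ∃ y : Equiv.Perm (V1 F K), IsTorV φ y s t τ ρ ∧ g = l * y)

/-- (L1A) the action on `V₁ = Q₁/Z₁` -/
def StL1a : Prop :=
  ∀ {F K : Type u} [Field F] [Field K] [Algebra F K] {φ : K ≃ₐ[F] K} [Cub φ] {p n : ℕ}, HypD φ p n →
    ∀ (Γ : Subgroup (MulAut (Q1 φ))) (D : Subgroup (MulAut (Sy φ))), Par p (Q1 φ) Γ D →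
    (p ^ n = 3 → ∀ α : MulAut (Sy φ), IsTor α (-1) 1 (RingEquiv.refl K) (RingEquiv.refl F) → α ∈ D) →
    HasH1 D ∧ (∀ l ∈ Lam1 φ, ∃ γ ∈ Γ, Same1 γ l) ∧
    (∀ γ ∈ Γ, ∃ l ∈ Lam1 φ, ∃ d ∈ D, ∃ δ : MulAut (Q1 φ), IsR d δ ∧ Same1 γ (l * δ))

/-- (L1) -/
def StL1 : Prop :=
  ∀ {F K : Type u} [Field F] [Field K] [Algebra F K] {φ : K ≃ₐ[F] K} [Cub φ] {p n : ℕ}, HypD φ p n →
    ∀ (Γ : Subgroup (MulAut (Q1 φ))) (D : Subgroup (MulAut (Sy φ))), Par p (Q1 φ) Γ D → HasT D →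
    (∀ γ : MulAut (Q1 φ), γ ∈ Γ ↔ ∃ l ∈ Lam1 φ, ∃ d ∈ D, ∃ δ : MulAut (Q1 φ), IsR d δ ∧ γ = l * δ)

/-- (L2A) the action on the factors of `Q₂ > Z₃ > Z₂ > 1` -/
def StL2a : Prop :=
  ∀ {F K : Type u} [Field F] [Field K] [Algebra F K] {φ : K ≃ₐ[F] K} [Cub φ] {p n : ℕ}, HypD φ p n →
    ∀ (Γ : Subgroup (MulAut (Q2 φ))) (D : Subgroup (MulAut (Sy φ))), Par p (Q2 φ) Γ D →
    HasH2 D ∧ (∀ l ∈ Lam2 φ, ∃ γ ∈ Γ, Same2 γ l) ∧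
    (∀ γ ∈ Γ, ∃ l ∈ Lam2 φ, ∃ d ∈ D, ∃ δ : MulAut (Q2 φ), IsR d δ ∧ Same2 γ (l * δ))

/-- (L2) -/
def StL2 : Prop :=
  ∀ {F K : Type u} [Field F] [Field K] [Algebra F K] {φ : K ≃ₐ[F] K} [Cub φ] {p n : ℕ}, HypD φ p n →
    ∀ (Γ : Subgroup (MulAut (Q2 φ))) (D : Subgroup (MulAut (Sy φ))), Par p (Q2 φ) Γ D → HasT D →
    (∀ γ : MulAut (Q2 φ), γ ∈ Γ ↔ ∃ l ∈ Lam2 φ, ∃ d ∈ D, ∃ δ : MulAut (Q2 φ), IsR d δ ∧ γ = l * δ)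

/-- (REALD) -/
def StRealD : Prop :=
  ∀ {F K : Type u} [Field F] [Field K] [Algebra F K] {φ : K ≃ₐ[F] K} [Cub φ] {p n : ℕ} [Fact p.Prime], HypD φ p n →
    ∀ D : Subgroup (MulAut (Sy φ)), D ≤ TT φ → (Nat.card D).Coprime p → HasT D →
    ∃ Fs : FusionSystem (⊤ : Subgroup (Sy φ)), Fs.IsSaturated p ∧ Fs.IsRealizable p ∧
      AF Fs = (MulAut.conj : Sy φ →* MulAut (Sy φ)).range ⊔ D ∧
      (¬ ∀ γ ∈ Fs.autGroup (Q1 φ), NormAut (⊤ : Subgroup (Sy φ)) γ) ∧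
      (¬ ∀ γ ∈ Fs.autGroup (Q2 φ), NormAut (⊤ : Subgroup (Sy φ)) γ)

end Cfsg.Agent.H780.D4
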