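import Cfsg.Agent.H756.PU.AsmGen
import Cfsg.Agent.H780.D4.Stmts
import Cfsg.Agent.H802.TE.Defs
import Cfsg.Agent.H765.D3.Iso

/-!
# S5261: the assembly (helper780)
-/

set_option autoImplicit false

namespace Cfsg.Agent.H780.D4

open Cfsg Cfsg.FusionSystem Cfsg.Agent.H802 Cfsg.Agent.H765.D3
open Cfsg.Agent.H765.D3.Sy (Q1 Q2 Z1 Z2 Z3 Z4 u1 u2 u3 u4 u5 u6)
open Cfsg.Agent.Hex.Defs (sh cr nm tr)
open Cfsg.Agent.H756.PU (Inv Ess NormAut TIAut AF StEss StCon StSame StTrans StTwist StCompl topHom mem_AF_iff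
  autGroup_top_eq_of_AF res_mem syl_of_normal ext_mem mem_range_sup map_conj_range top_le_normalizer_of_char inv_top_of_char
  not_norm_of_ess fullyNorm_of_normal)

universe u v

/-- all the pieces except the transport to `Sy φ` -/
structure Pieces : Prop where
  ess : StEss.{u}
  con : StCon.{u}
  same : StSame.{u}
  twist : StTwist.{u}
  compl : StCompl.{u}
  tialp : StTIAlp.{u}
  grp : StGrpD.{u}
  e : Cfsg.Agent.H802.TE.StE.{u}
  pos : StPosD.{u}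
  tor : StTor.{u}
  l1a : StL1a.{u}
  l1 : StL1.{u}
  l2a : StL2a.{u}
  l2 : StL2.{u}
  real : StRealD.{u}

section

variable {F K : Type u} [Field F] [Field K] [Algebra F K] {φ : K ≃ₐ[F] K} [Cub φ] {p n : ℕ}

theorem finite_F (hK : HypD φ p n) : Finite F :=
  Nat.finite_of_card_ne_zero (by rw [hK.card]; exact pow_ne_zero _ hK.pp.ne_zero)

theorem finite_Sy (hK : HypD φ p n) : Finite (Sy φ) := by
  have := hK.fin
  have := finite_F hK
  infer_instance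

theorem map_char {Q : Subgroup (Sy φ)} [hQ : Q.Characteristic] (α : MulAut (Sy φ)) : Q.map α.toMonoidHom = Q :=
  (Subgroup.characteristic_iff_map_eq.1 hQ) α

theorem map_Q (Q : Subgroup (Sy φ)) (hQ : Q = Q1 φ ∨ Q = Q2 φ) (α : MulAut (Sy φ)) : Q.map α.toMonoidHom = Q := by
  rcases hQ with rfl | rfl
  · exact map_char α
  · exact map_char α

theorem cent_Q (Q : Subgroup (Sy φ)) (hQ : Q = Q1 φ ∨ Q = Q2 φ) : centralizerIn ⊤ Q ≤ Q := by
  have key : centralizerIn ⊤ Q ≤ Subgroup.centralizer (Q : Set (Sy φ)) := by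
    intro x hx
    exact hx.2
  rcases hQ with rfl | rfl
  · refine key.trans ?_
    rw [Sy.centralizer_Q1]
    exact (Sy.Z1_le_Z2.trans (Sy.Z2_le_Z3.trans Sy.Z3_le_Z4)).trans Sy.Z4_le_Q1
  · refine key.trans ?_
    rw [Sy.centralizer_Q2]
    exact (Sy.Z2_le_Z3.trans Sy.Z3_le_Z4).trans Sy.Z4_le_Q2

theorem nQ12 : ¬ Q1 φ ≤ Q2 φ := by
  intro h
  have h1 : (u6 φ (1 : F)) ∈ Q2 φ := h (Sy.u6_mem 1)
  have h2 : (1 : F) = 0 := h1
  exact one_ne_zero h2

theorem nQ21 : ¬ Q2 φ ≤ Q1 φ := by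
  intro h
  have h1 : (u1 φ (1 : K)) ∈ Q1 φ := h (Sy.u1_mem 1)
  have h2 : (1 : K) = 0 := h1
  exact one_ne_zero h2

theorem ess_cases (H : Pieces.{u}) (hK : HypD φ p n) {Fs : FusionSystem (⊤ : Subgroup (Sy φ))}
    (hF : Fs.IsSaturated p) {E : Subgroup (Sy φ)} (hE : Fs.IsEssential p E) : E = Q1 φ ∨ E = Q2 φ := by
  have : Fact p.Prime := ⟨hK.pp⟩
  have := hK.fin
  have := finite_F hK
  have hfin : Finite (Sy φ) := finite_Sy hK
  have := hK.char
  have hS : IsPGroup p (⊤ : Subgroup (Sy φ)) := (H.grp hK).2.1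
  exact H.e (H.ess Fs E hS hF hE)

theorem ti_of (H : Pieces.{u}) (hK : HypD φ p n) {Fs : FusionSystem (⊤ : Subgroup (Sy φ))}
    (hF : Fs.IsSaturated p) (Q : Subgroup (Sy φ)) (hQ : Q = Q1 φ ∨ Q = Q2 φ) :
    TIAut (⊤ : Subgroup (Sy φ)) (Fs.autGroup Q) := by
  have : Fact p.Prime := ⟨hK.pp⟩
  have hfin : Finite (Sy φ) := finite_Sy hK
  have hS : IsPGroup p (⊤ : Subgroup (Sy φ)) := (H.grp hK).2.1
  rcases hQ with rfl | rfl
  · exact H.tialp Fs (Q1 φ) (Q2 φ) hS hF (fun E hE => ess_cases H hK hF hE) nQ12 (cent_Q _ (Or.inl rfl))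
      (map_Q _ (Or.inl rfl))
  · exact H.tialp Fs (Q2 φ) (Q1 φ) hS hF (fun E hE => (ess_cases H hK hF hE).symm) nQ21 (cent_Q _ (Or.inr rfl))
      (map_Q _ (Or.inr rfl))

theorem par_of (H : Pieces.{u}) (hK : HypD φ p n) {Fs : FusionSystem (⊤ : Subgroup (Sy φ))}
    (hF : Fs.IsSaturated p) {Q : Subgroup (Sy φ)} (hQ : Q = Q1 φ ∨ Q = Q2 φ)
    (hnn : ¬ ∀ γ ∈ Fs.autGroup Q, NormAut (⊤ : Subgroup (Sy φ)) γ)
    {D : Subgroup (MulAut (Sy φ))} (hD : D ≤ TT φ) (hDc : (Nat.card D).Coprime p)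
    (hAF : AF Fs = (MulAut.conj : Sy φ →* MulAut (Sy φ)).range ⊔ D) : Par p Q (Fs.autGroup Q) D := by
  have : Fact p.Prime := ⟨hK.pp⟩
  have hfin : Finite (Sy φ) := finite_Sy hK
  have hS : IsPGroup p (⊤ : Subgroup (Sy φ)) := (H.grp hK).2.1
  have hn := top_le_normalizer_of_char (map_Q Q hQ)
  refine ⟨autInducedBy_le_autGroup Fs le_top, syl_of_normal hS hF hn, hnn, ti_of H hK hF Q hQ,
    hD, hDc, ?_, ?_⟩
  · intro d hd γ hγ
    have h1 : d ∈ AF Fs := by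
      rw [hAF]
      exact Subgroup.mem_sup_right hd
    exact res_mem h1 hγ
  · intro γ hγ hN
    obtain ⟨β, hβ, he⟩ := ext_mem hS hF hn hγ hN
    rw [hAF] at hβ
    obtain ⟨x, d, hd, rfl⟩ := mem_range_sup hβ
    exact ⟨x, d, hd, fun e => he e⟩

theorem hasT_of (H : Pieces.{u}) (hK : HypD φ p n) {Γ1 : Subgroup (MulAut (Q1 φ))} {Γ2 : Subgroup (MulAut (Q2 φ))}
    {D : Subgroup (MulAut (Sy φ))} (h1 : Par p (Q1 φ) Γ1 D) (h2 : Par p (Q2 φ) Γ2 D) : HasT D := by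
  obtain ⟨a1, -, -⟩ := H.l2a hK Γ2 D h2
  obtain ⟨b1, -, -⟩ := H.l1a hK Γ1 D h1 (fun _ α hα => by
    refine a1 (-1) α (by norm_num) ?_
    have e1 : (algebraMap F K (-1))⁻¹ = -1 := by
      rw [map_neg, map_one]
      norm_num
    rw [e1, neg_one_sq]
    exact hα)
  exact H.tor hK D b1 a1

theorem real_of_tt (H : Pieces.{u}) (hK : HypD φ p n) {Fs : FusionSystem (⊤ : Subgroup (Sy φ))}
    (hF : Fs.IsSaturated p) (hE1 : Fs.IsEssential p (Q1 φ)) (hE2 : Fs.IsEssential p (Q2 φ))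
    {D : Subgroup (MulAut (Sy φ))} (hD : D ≤ TT φ) (hDc : (Nat.card D).Coprime p)
    (hAF : AF Fs = (MulAut.conj : Sy φ →* MulAut (Sy φ)).range ⊔ D) : Fs.IsRealizable p := by
  have : Fact p.Prime := ⟨hK.pp⟩
  have hfin : Finite (Sy φ) := finite_Sy hK
  have hS : IsPGroup p (⊤ : Subgroup (Sy φ)) := (H.grp hK).2.1
  have P1 := par_of H hK hF (Or.inl rfl) (not_norm_of_ess (H.ess Fs _ hS hF hE1)) hD hDc hAF
  have P2 := par_of H hK hF (Or.inr rfl) (not_norm_of_ess (H.ess Fs _ hS hF hE2)) hD hDc hAF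
  have hT := hasT_of H hK P1 P2
  have g1 := H.l1 hK _ D P1 hT
  have g2 := H.l2 hK _ D P2 hT
  obtain ⟨F', hF', hR, hAF', hN1, hN2⟩ := H.real hK D hD hDc hT
  have P1' := par_of H hK hF' (Or.inl rfl) hN1 hD hDc hAF'
  have P2' := par_of H hK hF' (Or.inr rfl) hN2 hD hDc hAF'
  have g1' := H.l1 hK _ D P1' hT
  have g2' := H.l2 hK _ D P2' hT
  have hsame := H.same Fs F' (Q1 φ) (Q2 φ) hS hF hF' le_top le_top
    (fun E hE => ess_cases H hK hF hE) (fun E hE => ess_cases H hK hF' hE)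
    (autGroup_top_eq_of_AF (hAF.trans hAF'.symm))
    (Subgroup.ext fun γ => (g1 γ).trans (g1' γ).symm) (Subgroup.ext fun γ => (g2 γ).trans (g2' γ).symm)
  rw [fusionSystem_ext hsame]
  exact hR

theorem real_of (H : Pieces.{u}) (hK : HypD φ p n) {Fs : FusionSystem (⊤ : Subgroup (Sy φ))}
    (hF : Fs.IsSaturated p) : Fs.IsRealizable p := by
  have : Fact p.Prime := ⟨hK.pp⟩
  have hfin : Finite (Sy φ) := finite_Sy hK
  have hS : IsPGroup p (⊤ : Subgroup (Sy φ)) := (H.grp hK).2.1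
  have con : ∀ Q : Subgroup (Sy φ), (Q = Q1 φ ∨ Q = Q2 φ) → (∀ E, Fs.IsEssential p E → E = Q) →
      Fs.IsRealizable p := by
    intro Q hQ hu
    have hchar := map_Q Q hQ
    exact H.con Fs Q hS hF le_top (top_le_normalizer_of_char hchar) (cent_Q Q hQ) hu (inv_top_of_char hchar)
  by_cases hE1 : Fs.IsEssential p (Q1 φ)
  · by_cases hE2 : Fs.IsEssential p (Q2 φ)
    · obtain ⟨D0, hD0, hD0e⟩ := H.compl Fs hS hF
      obtain ⟨θ, hθ⟩ := H.pos hK D0 hD0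
      obtain ⟨F', hF', hR, hAF', hess⟩ := H.twist Fs θ hF
      have hc1 := map_Q (Q1 φ) (Or.inl rfl)
      have hc2 := map_Q (Q2 φ) (Or.inr rfl)
      have hE1' : F'.IsEssential p (Q1 φ) := by
        have := (hess (Q1 φ)).1 hE1
        rwa [hc1] at this
      have hE2' : F'.IsEssential p (Q2 φ) := by
        have := (hess (Q2 φ)).1 hE2
        rwa [hc2] at this
      apply hR
      refine real_of_tt H hK hF' hE1' hE2' (D := D0.map (MulAut.conj θ).toMonoidHom) ?_ ?_ ?_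
      · rintro _ ⟨d, hd, rfl⟩
        exact hθ d hd
      · have : Nat.card (D0.map (MulAut.conj θ).toMonoidHom) = Nat.card D0 :=
          (Nat.card_congr (D0.equivMapOfInjective _ (MulAut.conj θ).injective).toEquiv).symm
        rwa [this]
      · rw [hAF', ← hD0e, Subgroup.map_sup, map_conj_range]
    · refine con (Q1 φ) (Or.inl rfl) fun E hE => ?_
      rcases ess_cases H hK hF hE with h | h
      · exact h
      · subst h
        exact absurd hE hE2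
  · refine con (Q2 φ) (Or.inr rfl) fun E hE => ?_
    rcases ess_cases H hK hF hE with h | h
    · subst h
      exact absurd hE hE1
    · exact h

end

theorem final_of (H : Pieces.{v}) (hTr : StTrans.{u, v})
    {Ω : Type u} [Group Ω] {S : Subgroup Ω} [Finite S] (p : ℕ) [Fact p.Prime] (Fs : Cfsg.FusionSystem S)
    (hF : Fs.IsSaturated p) {K : Type v} [Field K] [Fintype K] [CharP K p] (n : ℕ) (hn : 1 ≤ n)
    (hK : Fintype.card K = (p ^ n) ^ 3) (T : Sylow p ↥(Cfsg.Lie.twistedD4 K (p ^ n)))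
    (e : ↥S ≃* ↥(T : Subgroup ↥(Cfsg.Lie.twistedD4 K (p ^ n)))) : Fs.IsRealizable p := by
  obtain ⟨F, φ, hC, hFc, hφ, ⟨e'⟩⟩ := exists_iso hn hK T
  have hyp : HypD φ p n := ⟨Fact.out, hn, inferInstance, hFc, by rw [Nat.card_eq_fintype_card]; exact hK, inferInstance, hφ⟩
  obtain ⟨F', hF', hR⟩ := hTr Fs (e.trans e') hF
  exact hR (real_of H hyp hF')

end Cfsg.Agent.H780.D4
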